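import Groth.Agent.Lefpen.H713.HypProj
import Groth.Agent.Ega2.H267.ProjBC
import Groth.Agent.CohqB.ProjBC
import Groth.Prelude.Def_CohB1

/-!
# A linear hypersurface with an invertible coefficient is a projective space

For `q = ∑ x_i T_i - b T_(m+1)` over `B` and `z : Z ⟶ Spec B` such that `b` becomes invertible on `Z`:
`Hyp q ×_B Z ≅ P^m_Z` over `Z`.
-/

set_option autoImplicit false
universe u
open CategoryTheory CategoryTheory.Limits AlgebraicGeometry
open Groth.Agent.Lefpen.H713.HypProj

namespace Groth.Agent.Vancyc.H782.HypIso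

section Alg

variable {B : Type u} [CommRing B] {m : ℕ} (x : Fin (m + 1) → B) (b : B)
    (q : ↥(CohB1.polyGrading (m + 1) B 1))
    (hq : q.1 = ∑ i : Fin (m + 1), MvPolynomial.C (x i) * MvPolynomial.X i.castSucc -
      MvPolynomial.C b * MvPolynomial.X (Fin.last (m + 1)))
    {R : Type u} [CommRing R] (ρ : B →+* R) (v : R) (hv : v * ρ b = 1)

/-- the images of the coordinates -/
noncomputable def img : Fin (m + 2) → MvPolynomial (Fin (m + 1)) R :=
  Fin.lastCases (MvPolynomial.C v * ∑ i : Fin (m + 1), MvPolynomial.C (ρ (x i)) * MvPolynomial.X i)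
    (fun i => MvPolynomial.X i)

lemma img_castSucc (i : Fin (m + 1)) : img x ρ v i.castSucc = MvPolynomial.X i := by
  simp [img]

lemma img_last : img x ρ v (Fin.last (m + 1)) =
    MvPolynomial.C v * ∑ i : Fin (m + 1), MvPolynomial.C (ρ (x i)) * MvPolynomial.X i := by
  simp [img]

lemma img_hom (j : Fin (m + 2)) : (img x ρ v j).IsHomogeneous 1 := by
  refine Fin.lastCases ?_ (fun i => ?_) j
  · rw [img_last]
    have h1 : (∑ i : Fin (m + 1), MvPolynomial.C (ρ (x i)) * MvPolynomial.X i :
        MvPolynomial (Fin (m + 1)) R).IsHomogeneous 1 := by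
      apply MvPolynomial.IsHomogeneous.sum
      intro i _
      have := (MvPolynomial.isHomogeneous_C (Fin (m + 1)) (ρ (x i))).mul (MvPolynomial.isHomogeneous_X R i)
      rwa [zero_add] at this
    have := (MvPolynomial.isHomogeneous_C (Fin (m + 1)) v).mul h1
    rwa [zero_add] at this
  · rw [img_castSucc]
    exact MvPolynomial.isHomogeneous_X R i

/-- the substitution -/
noncomputable def sub : MvPolynomial (Fin (m + 2)) B →+* MvPolynomial (Fin (m + 1)) R :=
  MvPolynomial.eval₂Hom (MvPolynomial.C.comp ρ) (img x ρ v)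

include hq hv in
lemma sub_q : sub x ρ v q.1 = 0 := by
  rw [hq, map_sub, map_sum]
  simp only [map_mul, sub, MvPolynomial.coe_eval₂Hom, MvPolynomial.eval₂_C, MvPolynomial.eval₂_X,
    img_castSucc, img_last, RingHom.comp_apply]
  rw [← mul_assoc, ← map_mul, mul_comm (ρ b) v, hv, map_one, one_mul, sub_self]

/-- the map of homogeneous coordinate rings -/
noncomputable def subQ : CR q →+* MvPolynomial (Fin (m + 1)) R :=
  Ideal.Quotient.lift _ (sub x ρ v) (fun a ha => by
    obtain ⟨c, rfl⟩ := Ideal.mem_span_singleton.mp ha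
    rw [map_mul, sub_q x b q hq ρ v hv, zero_mul])

lemma subQ_mk (a : MvPolynomial (Fin (m + 2)) B) :
    subQ x b q hq ρ v hv (Ideal.Quotient.mk _ a) = sub x ρ v a := rfl

/-- graded version -/
noncomputable def subG : gr q →+*ᵍ CohB1.polyGrading m R where
  toRingHom := subQ x b q hq ρ v hv
  map_mem := by
    rintro i _ ⟨a, ha, rfl⟩
    have h := MvPolynomial.IsHomogeneous.eval₂ (show a.IsHomogeneous i from ha)
      (MvPolynomial.C.comp ρ) (img x ρ v) (fun r => MvPolynomial.isHomogeneous_C _ _) (img_hom x ρ v)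
    rw [one_mul] at h
    exact h

lemma subG_apply (a : CR q) : subG x b q hq ρ v hv a = subQ x b q hq ρ v hv a := rfl

lemma subG_X (i : Fin (m + 1)) :
    subG x b q hq ρ v hv (prG q (MvPolynomial.X i.castSucc)) = MvPolynomial.X i := by
  change sub x ρ v (MvPolynomial.X i.castSucc) = _
  rw [sub, MvPolynomial.coe_eval₂Hom, MvPolynomial.eval₂_X, img_castSucc]

lemma irrelevant_le : HomogeneousIdeal.irrelevant (CohB1.polyGrading m R) ≤
    (HomogeneousIdeal.irrelevant (gr q)).map (subG x b q hq ρ v hv) := by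
  apply (HomogeneousIdeal.irrelevant_le _).mpr
  intro i hi a ha
  have h1 := Groth.Agent.CohqB.ProjBC.mem_span_X_of_pos m hi a ha
  have h2 : Ideal.span (Set.range (MvPolynomial.X : Fin (m + 1) → MvPolynomial (Fin (m + 1)) R)) ≤
      ((HomogeneousIdeal.irrelevant (gr q)).map (subG x b q hq ρ v hv)).toIdeal := by
    rw [Ideal.span_le]
    rintro _ ⟨j, rfl⟩
    rw [← subG_X x b q hq ρ v hv j]
    apply Ideal.mem_map_of_mem
    exact HomogeneousIdeal.mem_irrelevant_of_mem _ one_pos
      ((prG q).2 (Groth.Agent.Sga5.ProjChart.X_mem (m + 1) B j.castSucc))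
  exact h2 h1

section UP

variable {T : Type u} [CommRing T]
include hq hv

theorem isPushout : IsPushout (CommRingCat.ofHom ρ) (CommRingCat.ofHom (algebraMap B (CR q)))
    (CommRingCat.ofHom (algebraMap R (MvPolynomial (Fin (m + 1)) R)))
    (CommRingCat.ofHom (subQ x b q hq ρ v hv)) := by
  have key : ∀ {T : Type u} [CommRing T] (f : R →+* T) (g : CR q →+* T)
      (h : f.comp ρ = g.comp (algebraMap B (CR q))),
      (MvPolynomial.eval₂Hom f (fun i : Fin (m + 1) => g (Ideal.Quotient.mk _ (MvPolynomial.X i.castSucc)))).comp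
        (subQ x b q hq ρ v hv) = g := by
    intro T _ f g h
    apply Ideal.Quotient.ringHom_ext
    have hc : ∀ r : B, f (ρ r) = g (Ideal.Quotient.mk _ (MvPolynomial.C r)) := fun r =>
      congrArg (fun t => t r) h
    apply MvPolynomial.ringHom_ext
    · intro r
      change MvPolynomial.eval₂ _ _ (sub x ρ v (MvPolynomial.C r)) = g (Ideal.Quotient.mk _ (MvPolynomial.C r))
      rw [sub, MvPolynomial.coe_eval₂Hom, MvPolynomial.eval₂_C, RingHom.comp_apply, MvPolynomial.eval₂_C]
      exact hc r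
    · intro j
      change MvPolynomial.eval₂ f _ (sub x ρ v (MvPolynomial.X j)) = g (Ideal.Quotient.mk _ (MvPolynomial.X j))
      rw [sub, MvPolynomial.coe_eval₂Hom, MvPolynomial.eval₂_X]
      refine Fin.lastCases ?_ (fun i => ?_) j
      · rw [img_last]
        have h0' : (g.comp (Ideal.Quotient.mk (Ideal.span {q.1}))) q.1 = 0 := by
          rw [RingHom.comp_apply, Ideal.Quotient.eq_zero_iff_mem.mpr (Ideal.mem_span_singleton_self _),
            map_zero]
        have h0 := (congrArg (g.comp (Ideal.Quotient.mk (Ideal.span {q.1}))) hq).symm.trans h0'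
        rw [map_sub, map_sum, sub_eq_zero] at h0
        simp only [map_mul, RingHom.comp_apply, ← hc] at h0
        change MvPolynomial.eval₂Hom f _ _ = _
        rw [map_mul, map_sum]
        simp only [map_mul, MvPolynomial.eval₂Hom_C, MvPolynomial.eval₂Hom_X']
        rw [h0, ← mul_assoc, ← map_mul, hv, map_one, one_mul]
      · rw [img_castSucc, MvPolynomial.eval₂_X]
  refine ⟨⟨?_⟩, ⟨PushoutCocone.IsColimit.mk _
    (fun s => CommRingCat.ofHom (MvPolynomial.eval₂Hom s.inl.hom
      (fun i : Fin (m + 1) => s.inr.hom (Ideal.Quotient.mk _ (MvPolynomial.X i.castSucc)))))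
    (fun s => ?_) (fun s => ?_) (fun s t h1 h2 => ?_)⟩⟩
  · apply CommRingCat.hom_ext
    apply RingHom.ext
    intro r
    change MvPolynomial.C (ρ r) = sub x ρ v (MvPolynomial.C r)
    rw [sub, MvPolynomial.coe_eval₂Hom, MvPolynomial.eval₂_C, RingHom.comp_apply]
  · apply CommRingCat.hom_ext
    apply RingHom.ext
    intro r
    exact MvPolynomial.eval₂_C _ _ _
  · apply CommRingCat.hom_ext
    exact key s.inl.hom s.inr.hom (congrArg CommRingCat.Hom.hom s.condition)
  · apply CommRingCat.hom_ext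
    apply MvPolynomial.ringHom_ext
    · intro r
      refine (congrArg (fun w => CommRingCat.Hom.hom w r) h1).trans ?_
      exact (MvPolynomial.eval₂_C _ _ _).symm
    · intro i
      refine Eq.trans ?_ (MvPolynomial.eval₂_X _ _ _).symm
      have h3 := congrArg (fun w => CommRingCat.Hom.hom w (Ideal.Quotient.mk _ (MvPolynomial.X i.castSucc))) h2
      refine Eq.trans ?_ h3
      change t.hom (MvPolynomial.X i) = t.hom (sub x ρ v (MvPolynomial.X i.castSucc))
      rw [sub, MvPolynomial.coe_eval₂Hom, MvPolynomial.eval₂_X, img_castSucc]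

end UP

end Alg

section Geo

variable {B : Type u} [CommRing B] {m : ℕ} (x : Fin (m + 1) → B) (b : B)
    (q : ↥(CohB1.polyGrading (m + 1) B 1))
    (hq : q.1 = ∑ i : Fin (m + 1), MvPolynomial.C (x i) * MvPolynomial.X i.castSucc -
      MvPolynomial.C b * MvPolynomial.X (Fin.last (m + 1)))
    {R : Type u} [CommRing R] (ρ : B →+* R) (v : R) (hv : v * ρ b = 1)

/-- the two structure morphisms agree -/
lemma toSpecZero_eq {B : Type u} [CommRing B] {n d : ℕ} (q : ↥(CohB1.polyGrading n B d)) :
    Proj.toSpecZero (gr q) ≫ Spec.map (CommRingCat.ofHom (algebraMap B (gr q 0))) = toSpec q := by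
  have key : ∀ i : Fin (n + 1), chartH q i ≫ Proj.toSpecZero (gr q) ≫
      Spec.map (CommRingCat.ofHom (algebraMap B (gr q 0))) = chartH q i ≫ toSpec q := by
    intro i
    have h1 := Groth.Agent.Ega2.H267.ProjBC.awayι_toSpec (gr q) Nat.one_pos
      (prG q (MvPolynomial.X i)) ((prG q).2 (Groth.Agent.Sga5.ProjChart.X_mem n B i))
    rw [chartH_toSpec, chartH, Category.assoc]
    refine (congrArg (fun t => Spec.map (CommRingCat.ofHom (chEquiv q i).symm.toRingHom) ≫ t) h1).trans ?_
    rw [← Spec.map_comp]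
    congr 1
    apply CommRingCat.hom_ext
    apply RingHom.ext
    intro r
    change (chEquiv q i).symm (Groth.Agent.Ega2.H267.AwayBC.algR (gr q) (prG q (MvPolynomial.X i)) r) =
      Ideal.Quotient.mk _ (MvPolynomial.C r)
    rw [RingEquiv.symm_apply_eq, chEquiv_mk]
    have h2 := toAway_dehom q i (e := 0) (MvPolynomial.C r) (by
      change (MvPolynomial.C r : MvPolynomial (Fin (n + 1)) B).IsHomogeneous (0 • 1)
      rw [zero_smul]; exact MvPolynomial.isHomogeneous_C _ r)
    rw [Groth.Agent.Sga5.ProjChart.dehom_C] at h2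
    rw [h2]
    apply HomogeneousLocalization.val_injective
    rw [Groth.Agent.Ega2.H267.AwayBC.val_algR, HomogeneousLocalization.Away.val_mk]
    symm
    refine (congrArg (fun t => Localization.mk (prG q (MvPolynomial.C r)) t)
      (a₂ := (1 : Submonoid.powers (prG q (MvPolynomial.X i)))) (Subtype.ext (pow_zero _))).trans ?_
    exact Localization.mk_one_eq_algebraMap _
  refine Scheme.Cover.hom_ext (chartCover q) _ _ (fun i => ?_)
  exact key i

/-- `P^m_R ⟶ Hyp q` -/
noncomputable def toHyp : CohB1.ProjSpace m R ⟶ Hyp q :=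
  Proj.map (subG x b q hq ρ v hv) (irrelevant_le x b q hq ρ v hv)

/-- over rings where `b` is invertible, the hypersurface is a projective space -/
theorem isPullback_toHyp : IsPullback (toHyp x b q hq ρ v hv) (CohB1.ProjSpace.toSpec m R) (toSpec q)
    (Spec.map (CommRingCat.ofHom ρ)) := by
  let _ : Algebra B R := ρ.toAlgebra
  let _ : Algebra (CR q) (MvPolynomial (Fin (m + 1)) R) := (subQ x b q hq ρ v hv).toAlgebra
  have hw := isPushout x b q hq ρ v hv
  have _ : IsScalarTower B (CR q) (MvPolynomial (Fin (m + 1)) R) :=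
    IsScalarTower.of_algebraMap_eq' (congrArg CommRingCat.Hom.hom hw.w)
  have _ : Algebra.IsPushout B R (CR q) (MvPolynomial (Fin (m + 1)) R) :=
    CommRingCat.isPushout_iff_isPushout.mp hw
  have h := Groth.Agent.Ega2.H267.ProjBC.isPullback_proj_map (R' := B) (R := R)
    (subG x b q hq ρ v hv) (fun _ => rfl) (irrelevant_le x b q hq ρ v hv)
  rw [toSpecZero_eq q] at h
  exact h

theorem isPullback_over {Z : Scheme.{u}} (z : Z ⟶ Spec (CommRingCat.of R)) :
    ∃ f : CohB1.ProjSpaceOver m Z ⟶ CohB1.ProjSpace m R,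
      IsPullback f (CohB1.ProjSpaceOver.toBase m Z) (CohB1.ProjSpace.toSpec m R) z := by
  have h1 := Groth.Agent.CohqB.ProjBC.isPullback_overMap m z
  refine ⟨Groth.Agent.CohqB.ProjBC.overMap m z ≫ (Groth.Agent.CohqB.ProjBC.projSpaceOverIso m R).hom, ?_⟩
  refine IsPullback.of_iso h1 (Iso.refl _) (Groth.Agent.CohqB.ProjBC.projSpaceOverIso m R) (Iso.refl _)
    (Iso.refl _) ?_ ?_ ?_ ?_
  · simp
  · simp
  · simp
  · simp

include hq in
/-- the scheme form -/
theorem exists_isPullback {Z : Scheme.{u}} (z : Z ⟶ Spec (CommRingCat.of B))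
    (hb : IsUnit (z.appTop.hom ((Scheme.ΓSpecIso (CommRingCat.of B)).inv.hom b))) :
    ∃ f : CohB1.ProjSpaceOver m Z ⟶ Hyp q,
      IsPullback f (CohB1.ProjSpaceOver.toBase m Z) (toSpec q) z := by
  let ρ : B →+* Γ(Z, ⊤) := z.appTop.hom.comp (Scheme.ΓSpecIso (CommRingCat.of B)).inv.hom
  obtain ⟨v, hv⟩ := hb.exists_left_inv
  obtain ⟨f, hf⟩ := isPullback_over (m := m) (R := Γ(Z, ⊤)) Z.toSpecΓ
  have h := hf.paste_horiz (isPullback_toHyp x b q hq ρ v hv)
  have hz : Z.toSpecΓ ≫ Spec.map (CommRingCat.ofHom ρ) = z := by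
    have := Scheme.toSpecΓ_naturality z
    have h3 : CommRingCat.ofHom ρ = (Scheme.ΓSpecIso (CommRingCat.of B)).inv ≫ z.appTop := rfl
    rw [h3, Spec.map_comp, ← Category.assoc, ← this, Category.assoc, toSpecΓ_SpecMap_ΓSpecIso_inv]
    exact Category.comp_id _
  rw [hz] at h
  exact ⟨_, h⟩

end Geo

end Groth.Agent.Vancyc.H782.HypIso

open Groth.Agent.Vancyc.H782.HypIso in
theorem Groth.Agent.Vancyc.H782.HypIso.nonempty_iso_hyp {B : Type u} [CommRing B] (m : ℕ)
    (x : Fin (m + 1) → B) (b : B)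
    (q : ↥(CohB1.polyGrading (m + 1) B 1))
    (hq : q.1 = ∑ i : Fin (m + 1), MvPolynomial.C (x i) * MvPolynomial.X i.castSucc -
      MvPolynomial.C b * MvPolynomial.X (Fin.last (m + 1)))
    {Z : Scheme.{u}} (z : Z ⟶ Spec (CommRingCat.of B))
    (hb : IsUnit (z.appTop.hom ((Scheme.ΓSpecIso (CommRingCat.of B)).inv.hom b))) :
    Nonempty (pullback (toSpec q) z ≅ CohB1.ProjSpaceOver m Z) := by
  obtain ⟨f, hf⟩ := exists_isPullback x b q hq z hb
  exact ⟨hf.isoPullback.symm⟩

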